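import Mathlib

/-!
# Flatness in short exact sequences of modules; the short exact sequence of a pullback (helper5)
-/
set_option autoImplicit false
set_option linter.unusedSectionVars false
set_option linter.unusedVariables false
universe u v
open CategoryTheory CategoryTheory.Limits TensorProduct

namespace Groth.Agent.Lib.Helper5.FlatQuot

section Ring

variable {R : Type u} [CommRing R] {M N P : Type u} [AddCommGroup M] [AddCommGroup N]
  [AddCommGroup P] [Module R M] [Module R N] [Module R P]

/-- in a short exact sequence `0 → M → N → P → 0` with `N` and `P` flat, `M` is flat -/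
theorem flat_left (g : M →ₗ[R] N) (f : N →ₗ[R] P) (hg : Function.Injective g)
    (hf : Function.Surjective f) (H : Function.Exact g f) [Module.Flat R N] [Module.Flat R P] :
    Module.Flat R M := by
  rw [Module.Flat.iff_rTensor_preserves_injective_linearMap]
  intro A' A _ _ _ _ i hi
  have h1 : Function.Injective (g.lTensor A') :=
    LinearMap.lTensor_injective_of_exact_of_flat f hf g hg H A'
  have h2 : Function.Injective (i.rTensor N) :=
    Module.Flat.rTensor_preserves_injective_linearMap i hi
  have hcomm : (g.lTensor A) ∘ₗ (i.rTensor M) = (i.rTensor N) ∘ₗ (g.lTensor A') := by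
    ext a m
    simp
  have h3 : Function.Injective ((g.lTensor A) ∘ₗ (i.rTensor M)) := by
    rw [hcomm]
    exact h2.comp h1
  exact Function.Injective.of_comp h3

/-- in a short exact sequence `0 → M → N → P → 0` with `M` and `P` flat, `N` is flat -/
theorem flat_mid (g : M →ₗ[R] N) (f : N →ₗ[R] P) (hg : Function.Injective g)
    (hf : Function.Surjective f) (H : Function.Exact g f) [Module.Flat R M] [Module.Flat R P] :
    Module.Flat R N := by
  rw [Module.Flat.iff_rTensor_preserves_injective_linearMap]
  intro A' A _ _ _ _ i hi
  rw [injective_iff_map_eq_zero]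
  intro x hx
  have hP : Function.Injective (i.rTensor P) :=
    Module.Flat.rTensor_preserves_injective_linearMap i hi
  have hM : Function.Injective (i.rTensor M) :=
    Module.Flat.rTensor_preserves_injective_linearMap i hi
  have hgA : Function.Injective (g.lTensor A) :=
    LinearMap.lTensor_injective_of_exact_of_flat f hf g hg H A
  have hex : Function.Exact (g.lTensor A') (f.lTensor A') := lTensor_exact A' H hf
  have c1 : (f.lTensor A) ∘ₗ (i.rTensor N) = (i.rTensor P) ∘ₗ (f.lTensor A') := by
    ext a m
    simp
  have c2 : (g.lTensor A) ∘ₗ (i.rTensor M) = (i.rTensor N) ∘ₗ (g.lTensor A') := by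
    ext a m
    simp
  have e1 : f.lTensor A' x = 0 := by
    apply hP
    have := LinearMap.congr_fun c1 x
    simp only [LinearMap.coe_comp, Function.comp_apply] at this
    rw [← this, hx, map_zero, map_zero]
  obtain ⟨y, rfl⟩ := (hex x).1 e1
  have e2 : i.rTensor M y = 0 := by
    apply hgA
    have := LinearMap.congr_fun c2 y
    simp only [LinearMap.coe_comp, Function.comp_apply] at this
    rw [this, hx, map_zero]
  have e3 : y = 0 := hM (by rw [e2, map_zero])
  rw [e3, map_zero]

end Ring

section Abelian

variable {C : Type u} [Category.{v} C] [Abelian C]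

/-- the short exact sequence `0 → ker b → A ×_C B → A → 0` of a pullback along an epimorphism -/
theorem shortExact_pullback {A B D K : C} (a : A ⟶ D) (b : B ⟶ D) [Epi b] (k : K ⟶ B)
    (hk : k ≫ b = 0) (hK : IsLimit (KernelFork.ofι k hk)) :
    (ShortComplex.mk (pullback.lift (0 : K ⟶ A) k (by rw [zero_comp, hk])) (pullback.fst a b)
      (by rw [pullback.lift_fst])).ShortExact := by
  haveI : Mono k := mono_of_isLimit_fork hK
  haveI : Mono (pullback.lift (0 : K ⟶ A) k (by rw [zero_comp, hk]) : K ⟶ pullback a b) :=
    mono_of_mono_fac (pullback.lift_snd _ _ _)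
  have hlim : IsLimit (KernelFork.ofι
      (pullback.lift (0 : K ⟶ A) k (by rw [zero_comp, hk]) : K ⟶ pullback a b)
      (by rw [pullback.lift_fst] : _ ≫ pullback.fst a b = 0)) := by
    refine KernelFork.IsLimit.ofι' _ _ (fun {T} t ht => ?_)
    have h0 : (t ≫ pullback.snd a b) ≫ b = 0 := by
      rw [Category.assoc, ← pullback.condition, ← Category.assoc, ht, zero_comp]
    refine ⟨hK.lift (KernelFork.ofι (t ≫ pullback.snd a b) h0), ?_⟩
    apply pullback.hom_ext
    · rw [Category.assoc, pullback.lift_fst, comp_zero, ht]
    · rw [Category.assoc, pullback.lift_snd]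
      exact hK.fac (KernelFork.ofι (t ≫ pullback.snd a b) h0) WalkingParallelPair.zero
  exact
    { exact := ShortComplex.exact_of_f_is_kernel _ hlim
      mono_f := by assumption
      epi_g := inferInstanceAs (Epi (pullback.fst a b)) }

end Abelian

end Groth.Agent.Lib.Helper5.FlatQuot
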