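import Mathlib
import Groth.Prelude.Def_FlatMod2
import Groth.Prelude.Def_Coh
import Groth.Agent.Lib.Lead.SD1
import Groth.Agent.Lib.Helper1.PushQc
import Groth.Agent.Lib.Helper5.Stalk.Pull
import Groth.Agent.Lib.Helper5.Stalk.Exact
import Groth.Agent.Lib.Helper5.FlatQuot.Alg

/-!
# Pointwise flatness of `𝒪_X`-modules: short exact sequences, flat descent, direct images (helper5)
-/
set_option backward.isDefEq.respectTransparency.types false
set_option synthInstance.maxHeartbeats 400000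
set_option autoImplicit false
set_option linter.unusedSectionVars false
set_option linter.unusedVariables false
set_option linter.style.haveILetI false
universe u
open CategoryTheory CategoryTheory.Limits AlgebraicGeometry TopologicalSpace Opposite

namespace Groth.Agent.Lib.Helper5.FlatQuot

open Groth.Agent.Lib.Helper5.StalkAdj

variable {X : Scheme.{u}}

/-- the stalks of a short exact sequence form a short exact sequence -/
theorem stalk_ses (S : ShortComplex X.Modules) (hS : S.ShortExact) (x : X) :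
    Function.Injective ((stalkSh X x).map S.f).hom ∧
    Function.Surjective ((stalkSh X x).map S.g).hom ∧
    Function.Exact ((stalkSh X x).map S.f).hom ((stalkSh X x).map S.g).hom := by
  have hS' : (S.map (stalkSh X x)).ShortExact := hS.map_of_exact (stalkSh X x)
  haveI : Mono ((stalkSh X x).map S.f) := hS'.mono_f
  haveI : Epi ((stalkSh X x).map S.g) := hS'.epi_g
  refine ⟨(ModuleCat.mono_iff_injective _).1 inferInstance,
    (ModuleCat.epi_iff_surjective _).1 inferInstance, ?_⟩
  exact (ShortComplex.ShortExact.moduleCat_exact_iff_function_exact (S.map (stalkSh X x))).1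
    hS'.exact

theorem isFlatAt_X₂ (S : ShortComplex X.Modules) (hS : S.ShortExact) (x : X)
    (h₁ : FlatMod.IsFlatAt S.X₁ x) (h₃ : FlatMod.IsFlatAt S.X₃ x) : FlatMod.IsFlatAt S.X₂ x := by
  obtain ⟨hi, hs, he⟩ := stalk_ses S hS x
  haveI : Module.Flat (X.presheaf.stalk x) ((stalkSh X x).obj S.X₁) := h₁
  haveI : Module.Flat (X.presheaf.stalk x) ((stalkSh X x).obj S.X₃) := h₃
  exact flat_mid ((stalkSh X x).map S.f).hom ((stalkSh X x).map S.g).hom hi hs he

theorem isFlatAt_X₁ (S : ShortComplex X.Modules) (hS : S.ShortExact) (x : X)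
    (h₂ : FlatMod.IsFlatAt S.X₂ x) (h₃ : FlatMod.IsFlatAt S.X₃ x) : FlatMod.IsFlatAt S.X₁ x := by
  obtain ⟨hi, hs, he⟩ := stalk_ses S hS x
  haveI : Module.Flat (X.presheaf.stalk x) ((stalkSh X x).obj S.X₂) := h₂
  haveI : Module.Flat (X.presheaf.stalk x) ((stalkSh X x).obj S.X₃) := h₃
  exact flat_left ((stalkSh X x).map S.f).hom ((stalkSh X x).map S.g).hom hi hs he

theorem isFlatAt_of_iso {M N : X.Modules} (e : M ≅ N) (x : X) (h : FlatMod.IsFlatAt M x) :
    FlatMod.IsFlatAt N x := by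
  have e' := ((stalkSh X x).mapIso e).toLinearEquiv
  exact (Module.Flat.equiv_iff e').1 h

/-- flatness of the stalks descends along flat morphisms -/
theorem isFlatAt_of_pullback {W : Scheme.{u}} (f : W ⟶ X) [Flat f] (M : X.Modules) (y : W)
    (h : FlatMod.IsFlatAt ((Scheme.Modules.pullback f).obj M) y) : FlatMod.IsFlatAt M (f y) := by
  have e := ((stalkPullbackIso f y).app M).toLinearEquiv
  have h2 : Module.Flat (W.presheaf.stalk y)
      ((ModuleCat.extendScalars.{u, u, u} (f.stalkMap y).hom).obj ((stalkSh X (f y)).obj M)) :=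
    (Module.Flat.equiv_iff e).1 h
  letI : Algebra (X.presheaf.stalk (f y)) (W.presheaf.stalk y) := (f.stalkMap y).hom.toAlgebra
  haveI : Module.Flat (X.presheaf.stalk (f y)) (W.presheaf.stalk y) := Flat.stalkMap f y
  haveI : IsLocalHom (algebraMap (X.presheaf.stalk (f y)) (W.presheaf.stalk y)) :=
    inferInstanceAs (IsLocalHom (f.stalkMap y).hom)
  haveI : Module.FaithfullyFlat (X.presheaf.stalk (f y)) (W.presheaf.stalk y) :=
    Module.FaithfullyFlat.of_flat_of_isLocalHom
  haveI : Module.Flat (W.presheaf.stalk y)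
      (TensorProduct (X.presheaf.stalk (f y)) (W.presheaf.stalk y) ((stalkSh X (f y)).obj M)) := h2
  exact Module.Flat.of_flat_tensorProduct (X.presheaf.stalk (f y)) ((stalkSh X (f y)).obj M)
    (W.presheaf.stalk y)

/-- sections of a direct image along a flat morphism, over an affine open with affine preimage -/
theorem flat_sections_push {W : Scheme.{u}} (j : W ⟶ X) [Flat j] (K : W.Modules) {V : X.Opens}
    (hV : IsAffineOpen V) (hV' : IsAffineOpen (j ⁻¹ᵁ V))
    (hK : Module.Flat Γ(W, j ⁻¹ᵁ V) Γ(K, j ⁻¹ᵁ V)) :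
    Module.Flat Γ(X, V) Γ((Scheme.Modules.pushforward j).obj K, V) := by
  have hfl : (j.appLE V (j ⁻¹ᵁ V) (le_refl _)).hom.Flat :=
    HasRingHomProperty.appLE (P := @Flat) j inferInstance ⟨V, hV⟩ ⟨j ⁻¹ᵁ V, hV'⟩ (le_refl _)
  letI := (j.appLE V (j ⁻¹ᵁ V) (le_refl _)).hom.toAlgebra
  haveI : Module.Flat Γ(X, V) Γ(W, j ⁻¹ᵁ V) := hfl
  letI : Module Γ(X, V) Γ(K, j ⁻¹ᵁ V) :=
    Module.compHom Γ(K, j ⁻¹ᵁ V) (j.appLE V (j ⁻¹ᵁ V) (le_refl _)).hom
  haveI : IsScalarTower Γ(X, V) Γ(W, j ⁻¹ᵁ V) Γ(K, j ⁻¹ᵁ V) :=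
    IsScalarTower.of_algebraMap_smul (fun r m => rfl)
  haveI : Module.Flat Γ(X, V) Γ(K, j ⁻¹ᵁ V) :=
    Module.Flat.trans Γ(X, V) Γ(W, j ⁻¹ᵁ V) Γ(K, j ⁻¹ᵁ V)
  let e : Γ(K, j ⁻¹ᵁ V) ≃ₗ[Γ(X, V)] Γ((Scheme.Modules.pushforward j).obj K, V) :=
    { toFun := fun s => s
      invFun := fun s => s
      map_add' := fun _ _ => rfl
      map_smul' := fun r s => by
        show (j.appLE V (j ⁻¹ᵁ V) (le_refl _)).hom r • s = _
        rw [← Scheme.Hom.app_eq_appLE]
        rfl
      left_inv := fun _ => rfl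
      right_inv := fun _ => rfl }
  exact Module.Flat.of_linearEquiv e.symm

/-- the direct image, along a flat affine morphism, of a quasi-coherent module which is flat over
the preimage of an affine open `V` is flat over `V` -/
theorem isFlatAt_push {W : Scheme.{u}} (j : W ⟶ X) [Flat j] [IsAffineHom j] (K : W.Modules)
    [K.IsQuasicoherent] {V : X.Opens} (hV : IsAffineOpen V)
    (hK : ∀ y : W, j y ∈ V → FlatMod.IsFlatAt K y) (x : X) (hx : x ∈ V) :
    FlatMod.IsFlatAt ((Scheme.Modules.pushforward j).obj K) x := by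
  haveI : ((Scheme.Modules.pushforward j).obj K).IsQuasicoherent :=
    Groth.Agent.Helper1.PushQc.isQuasicoherent_pushforward j K
  have hV' : IsAffineOpen (j ⁻¹ᵁ V) := hV.preimage j
  have h1 : Module.Flat Γ(W, j ⁻¹ᵁ V) Γ(K, j ⁻¹ᵁ V) :=
    Groth.Agent.Lead.SD.flat_sections_of_flat_stalks K hV' (fun z => hK z.1 z.2)
  have h2 := flat_sections_push j K hV hV' h1
  exact Groth.Agent.Lead.SD.flat_stalk_of_flat_sections _ hV ⟨x, hx⟩ h2

end Groth.Agent.Lib.Helper5.FlatQuot
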