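import Mathlib
import Groth.Prelude.Def_FlatMod2
import Groth.Prelude.Def_Coh
import Groth.Agent.Lib.Helper5.FlatQuot.Stalk
import Groth.Agent.Lib.Helper5.Stalk.FlatPull
import Groth.Agent.Lib.Helper5.CBC.TildeFlat
import Groth.Agent.Lib.Helper1.AffPushEpi
import Groth.Agent.Lib.Helper1.QcAbel
import Groth.Agent.Lib.Lead.PBQc
import Groth.Agent.Lib.Lead.FtDesc2

/-!
# Flat quasi-coherent quotients on quasi-compact schemes with affine diagonal (helper5)
-/
set_option backward.isDefEq.respectTransparency.types false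
set_option synthInstance.maxHeartbeats 400000
set_option autoImplicit false
set_option linter.unusedSectionVars false
set_option linter.unusedVariables false
set_option linter.style.haveILetI false
universe u
open CategoryTheory CategoryTheory.Limits AlgebraicGeometry TopologicalSpace Opposite

namespace Groth.Agent.Lib.Helper5.FlatQuot

open Groth.Agent.Lib.Helper5.StalkAdj

variable {X : Scheme.{u}}

theorem isAffineHom_fromSpec
    (hd : ∀ V W : X.Opens, IsAffineOpen V → IsAffineOpen W → IsAffineOpen (V ⊓ W))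
    {U : X.Opens} (hU : IsAffineOpen U) : IsAffineHom hU.fromSpec := by
  refine ⟨fun V hV => ?_⟩
  rw [← Scheme.Hom.isAffineOpen_iff_of_isOpenImmersion hU.fromSpec,
    Scheme.Hom.image_preimage_eq_opensRange_inf, hU.opensRange_fromSpec]
  exact hd U V hU hV

theorem exists_free_epi (R : CommRingCat.{u}) (M : ModuleCat.{u} R) :
    ∃ (F : ModuleCat.{u} R) (π₀ : F ⟶ M), Module.Flat R F ∧ Epi π₀ := by
  refine ⟨ModuleCat.of R (M →₀ R), ModuleCat.ofHom (Finsupp.linearCombination R (id : M → M)),
    (inferInstance : Module.Flat R (M →₀ R)), ?_⟩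
  rw [ModuleCat.epi_iff_surjective]
  exact Finsupp.linearCombination_surjective R Function.surjective_id

/-- on an affine scheme, every quasi-coherent module is a quotient of a flat quasi-coherent one -/
theorem exists_flat_epi_affine (R : CommRingCat.{u}) (N : (Spec R).Modules) [N.IsQuasicoherent] :
    ∃ (P : (Spec R).Modules) (p : P ⟶ N), P.IsQuasicoherent ∧ FlatMod.IsFlat P ∧ Epi p := by
  obtain ⟨F, π₀, hF, hπ₀⟩ := exists_free_epi R ((modulesSpecToSheaf.obj N).presheaf.obj (.op ⊤))
  haveI := hF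
  haveI := hπ₀
  haveI h1 : IsIso N.fromTildeΓ := inferInstance
  haveI h2 : Epi N.fromTildeΓ := inferInstance
  haveI h3 : Epi ((tilde.functor R).map π₀) := inferInstance
  refine ⟨(tilde.functor R).obj F, (tilde.functor R).map π₀ ≫ N.fromTildeΓ,
    inferInstanceAs ((tilde.functor R).obj F).IsQuasicoherent,
    Groth.Agent.Lib.Helper5.CBC.flatMod_tilde_of_flat R F, ?_⟩
  exact @epi_comp _ _ _ _ _ ((tilde.functor R).map π₀) h3 N.fromTildeΓ h2

/-- the inductive step: make a quasi-coherent module flat over an affine open `U`, keeping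
flatness over the affine opens where it already holds -/
theorem step (hd : ∀ V W : X.Opens, IsAffineOpen V → IsAffineOpen W → IsAffineOpen (V ⊓ W))
    {U : X.Opens} (hU : IsAffineOpen U) (G : X.Modules) [G.IsQuasicoherent] :
    ∃ (G' : X.Modules) (π : G' ⟶ G), G'.IsQuasicoherent ∧ Epi π ∧
      (∀ x : X, x ∈ U → FlatMod.IsFlatAt G' x) ∧
      (∀ V : X.Opens, IsAffineOpen V → (∀ x : X, x ∈ V → FlatMod.IsFlatAt G x) →
        ∀ x : X, x ∈ V → FlatMod.IsFlatAt G' x) := by
  let R : CommRingCat.{u} := Γ(X, U)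
  let φ : Spec R ⟶ X := hU.fromSpec
  haveI : IsAffineHom φ := isAffineHom_fromSpec hd hU
  haveI : IsOpenImmersion φ := inferInstanceAs (IsOpenImmersion hU.fromSpec)
  let L : X.Modules ⥤ (Spec R).Modules := Scheme.Modules.pullback φ
  let Rf : (Spec R).Modules ⥤ X.Modules := Scheme.Modules.pushforward φ
  let adj : L ⊣ Rf := Scheme.Modules.pullbackPushforwardAdjunction φ
  let N : (Spec R).Modules := L.obj G
  haveI hNq : N.IsQuasicoherent := Groth.Agent.Lead.PB.isQuasicoherent_pullback φ G
  obtain ⟨P, p, hPq, hP, hp⟩ := exists_flat_epi_affine R N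
  haveI := hPq
  haveI := hp
  let a : G ⟶ Rf.obj N := adj.unit.app G
  let b : Rf.obj P ⟶ Rf.obj N := Rf.map p
  haveI hb : Epi b := Groth.Agent.Helper1.AffPushEpi.epi_pushforward_of_isAffineHom φ p
  haveI : (Rf.obj P).IsQuasicoherent := Groth.Agent.Helper1.PushQc.isQuasicoherent_pushforward φ P
  haveI : (Rf.obj N).IsQuasicoherent := Groth.Agent.Helper1.PushQc.isQuasicoherent_pushforward φ N
  refine ⟨pullback a b, pullback.fst a b,
    Groth.Agent.Lead.FtDesc.isQuasicoherent_pullback a b, inferInstance, ?_, ?_⟩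
  · -- flatness over `U`
    intro x hx
    obtain ⟨y, rfl⟩ : ∃ y, φ y = x := by
      have : x ∈ Set.range hU.fromSpec := by rw [hU.range_fromSpec]; exact hx
      exact this
    apply isFlatAt_of_pullback φ (pullback a b) y
    haveI : IsIso adj.counit := inferInstance
    haveI hca : IsIso (L.map a) := by
      haveI : IsIso (L.map a ≫ adj.counit.app (L.obj G)) := by
        rw [adj.left_triangle_components]
        infer_instance
      exact IsIso.of_isIso_comp_right (L.map a) (adj.counit.app (L.obj G))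
    let e1 : L.obj (pullback a b) ≅ pullback (L.map a) (L.map b) := PreservesPullback.iso L a b
    let e2 : pullback (L.map a) (L.map b) ≅ L.obj (Rf.obj P) :=
      asIso (pullback.snd (L.map a) (L.map b))
    let e3 : L.obj (Rf.obj P) ≅ P := asIso (adj.counit.app P)
    exact isFlatAt_of_iso (e1 ≪≫ e2 ≪≫ e3).symm y (hP y)
  · -- flatness is preserved over the affine opens
    intro V hV hG x hx
    haveI hKq : (kernel p).IsQuasicoherent := Groth.Agent.Helper1.QcAbel.isQuasicoherent_kernel p
    let S₀ : ShortComplex (Spec R).Modules := ShortComplex.mk (kernel.ι p) p (kernel.condition p)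
    have hS₀ : S₀.ShortExact :=
      { exact := ShortComplex.exact_of_f_is_kernel _ (kernelIsKernel p)
        mono_f := inferInstanceAs (Mono (kernel.ι p))
        epi_g := hp }
    have hK₀ : ∀ y : (Spec R : Scheme.{u}), φ y ∈ V → FlatMod.IsFlatAt (kernel p) y := by
      intro y hy
      exact isFlatAt_X₁ S₀ hS₀ y (hP y) (flat_stalk_pullback φ y G (hG (φ y) hy))
    have hK : FlatMod.IsFlatAt (Rf.obj (kernel p)) x := isFlatAt_push φ (kernel p) hV hK₀ x hx
    have hk : Rf.map (kernel.ι p) ≫ b = 0 := by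
      rw [← Rf.map_comp, kernel.condition, Rf.map_zero]
    have hlim : IsLimit (KernelFork.ofι (Rf.map (kernel.ι p)) hk) :=
      KernelFork.mapIsLimit (KernelFork.ofι (kernel.ι p) (kernel.condition p)) (kernelIsKernel p) Rf
    have hS := shortExact_pullback a b (Rf.map (kernel.ι p)) hk hlim
    exact isFlatAt_X₂ _ hS x hK (hG x hx)

/-- on a quasi-compact scheme with affine diagonal, every quasi-coherent module is a quotient of a
flat quasi-coherent module -/
theorem exists_flat_quotient [CompactSpace X]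
    (hd : ∀ V W : X.Opens, IsAffineOpen V → IsAffineOpen W → IsAffineOpen (V ⊓ W))
    (M : X.Modules) (hM : M.IsQuasicoherent) :
    ∃ (F : X.Modules) (π : F ⟶ M), F.IsQuasicoherent ∧ FlatMod.IsFlat F ∧ Epi π := by
  have key : ∀ (t : Finset X.affineOpens) (G : X.Modules), G.IsQuasicoherent →
      ∃ (G' : X.Modules) (π : G' ⟶ G), G'.IsQuasicoherent ∧ Epi π ∧
        ∀ V ∈ t, ∀ x : X, x ∈ V.1 → FlatMod.IsFlatAt G' x := by
    intro t
    classical
    induction t using Finset.induction_on with
    | empty =>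
      intro G hG
      exact ⟨G, 𝟙 G, hG, inferInstance, fun V hV => absurd hV (Finset.notMem_empty V)⟩
    | insert U t hUt ih =>
      intro G hG
      obtain ⟨G₁, π₁, hq₁, he₁, hf₁⟩ := ih G hG
      haveI := hq₁
      obtain ⟨G₂, π₂, hq₂, he₂, hfU, hfV⟩ := step hd U.2 G₁
      haveI := he₁
      haveI := he₂
      refine ⟨G₂, π₂ ≫ π₁, hq₂, epi_comp _ _, ?_⟩
      intro V hV x hx
      rcases Finset.mem_insert.1 hV with rfl | hV'
      · exact hfU x hx
      · exact hfV V.1 V.2 (hf₁ V hV') x hx
  obtain ⟨t, ht⟩ := isCompact_univ.elim_finite_subcover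
    (fun V : X.affineOpens => ((V.1 : X.Opens) : Set X)) (fun V => V.1.2)
    (by
      intro x _
      obtain ⟨_, ⟨V, hV : IsAffineOpen V, rfl⟩, hxV, -⟩ :=
        X.isBasis_affineOpens.exists_subset_of_mem_open (Set.mem_univ x) isOpen_univ
      exact Set.mem_iUnion.2 ⟨⟨V, hV⟩, hxV⟩)
  obtain ⟨F, π, hq, he, hf⟩ := key t M hM
  refine ⟨F, π, hq, ?_, he⟩
  intro x
  obtain ⟨V, hV, hxV⟩ : ∃ V ∈ t, x ∈ ((V.1 : X.Opens) : Set X) := by
    have := ht (Set.mem_univ x)
    simpa using this
  exact hf V hV x hxV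

end Groth.Agent.Lib.Helper5.FlatQuot
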