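import Mathlib
import Groth.Prelude.Def_FlatMod2
import Groth.Prelude.Def_Coh
import Groth.Agent.Lib.Helper5.FlatQuot.Main
import Groth.Agent.Lib.Helper1.SubExt7
import Groth.Agent.Lib.Helper1.FinSigma
import Groth.Agent.Lib.Helper1.VT23
import Groth.Agent.Lib.Helper1.FinPush
import Groth.Agent.Lib.Helper1.FPA8

/-!
# Torsion-free coherent quotients on Noetherian integral schemes with affine diagonal (helper5)
-/
set_option backward.isDefEq.respectTransparency.types false
set_option synthInstance.maxHeartbeats 400000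
set_option autoImplicit false
set_option linter.unusedSectionVars false
set_option linter.unusedVariables false
set_option linter.style.haveILetI false
universe u
open CategoryTheory CategoryTheory.Limits AlgebraicGeometry TopologicalSpace Opposite

namespace Groth.Agent.Lib.Helper5.FlatQuot

open Groth.Agent.Lib.Helper5.StalkAdj Groth.Agent.Helper1 Groth.Agent.Helper1.SubSh
open scoped nonZeroDivisors

variable {X : Scheme.{u}}

/-- the stalk of `M` at `y` is torsion-free -/
def TF (M : X.Modules) (y : X) : Prop :=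
  ∀ (r : X.presheaf.stalk y) (m : (stalkSh X y).obj M), r ≠ 0 → r • m = 0 → m = 0

theorem tf_of_isFlatAt [IsIntegral X] (M : X.Modules) (y : X) (h : FlatMod.IsFlatAt M y) :
    TF M y := by
  intro r m hr hm
  haveI : Module.Flat (X.presheaf.stalk y) ((stalkSh X y).obj M) := h
  have hreg : IsSMulRegular ((stalkSh X y).obj M) r :=
    Module.Flat.isSMulRegular_of_nonZeroDivisors (mem_nonZeroDivisors_of_ne_zero hr)
  exact hreg (by show r • m = r • 0; rw [hm, smul_zero])

theorem tf_of_mono {M N : X.Modules} (i : M ⟶ N) [Mono i] (y : X) (h : TF N y) : TF M y := by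
  intro r m hr hm
  haveI : Mono ((stalkSh X y).map i) := inferInstance
  have hinj : Function.Injective ((stalkSh X y).map i).hom :=
    (ModuleCat.mono_iff_injective _).1 inferInstance
  apply hinj
  rw [map_zero]
  apply h r _ hr
  rw [← map_smul, hm, map_zero]

theorem tf_sigma {k : ℕ} (B : Fin k → X.Modules) (y : X) (h : ∀ i, TF (B i) y) :
    TF (∐ B) y := by
  intro r m hr hm
  have h0 : ∀ i, ((stalkSh X y).map (FinSigma.q B i)).hom m = 0 := by
    intro i
    apply h i r _ hr
    rw [← map_smul, hm, map_zero]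
  have h1 : ∑ i, (stalkSh X y).map (FinSigma.q B i) ≫ (stalkSh X y).map (Sigma.ι B i) =
      𝟙 ((stalkSh X y).obj (∐ B)) := by
    rw [← (stalkSh X y).map_id, ← FinSigma.sum_q_ι B, Functor.map_sum]
    simp only [Functor.map_comp]
  have h2 := congrArg (fun φ => (ModuleCat.Hom.hom φ) m) h1
  simp only [ModuleCat.hom_id, LinearMap.id_apply, ModuleCat.hom_sum, LinearMap.sum_apply] at h2
  rw [← h2]
  apply Finset.sum_eq_zero
  intro i _
  rw [ModuleCat.hom_comp, LinearMap.comp_apply, h0 i, map_zero]

theorem surjective_of_span {M N : X.Modules} (φ : M ⟶ N) (U : X.Opens) (S : Set Γ(N, U))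
    (hS : Submodule.span Γ(X, U) S = ⊤) (h : ∀ s ∈ S, ∃ m, φ.app U m = s) :
    Function.Surjective (φ.app U) := by
  intro t
  have ht : t ∈ Submodule.span Γ(X, U) S := by rw [hS]; trivial
  induction ht using Submodule.span_induction with
  | mem x hx => exact h x hx
  | zero => exact ⟨0, map_zero _⟩
  | add x y _ _ hx hy =>
    obtain ⟨a, rfl⟩ := hx
    obtain ⟨b, rfl⟩ := hy
    exact ⟨a + b, map_add _ _ _⟩
  | smul r x _ hx =>
    obtain ⟨a, rfl⟩ := hx
    exact ⟨r • a, Scheme.Modules.Hom.app_smul _ _ _⟩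

/-- a coherent quotient of a quasi-coherent module is the image of a coherent subsheaf, locally over
an affine open: a subsheaf of finite type through which the sections over `V` lift -/
theorem exists_ft_sub_surj [CompactSpace X] [QuasiSeparatedSpace X] {G F : X.Modules}
    [G.IsQuasicoherent] (hF : Coh.IsCoh F) (π : G ⟶ F) [Epi π] {V : X.Opens}
    (hV : IsAffineOpen V) :
    ∃ (N : X.Modules) (i : N ⟶ G), Mono i ∧ Coh.IsCoh N ∧
      Function.Surjective ((i ≫ π).app V) := by
  classical
  haveI : F.IsQuasicoherent := hF.1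
  haveI hfin : Module.Finite Γ(X, V) Γ(F, V) := FinPush.finite_sections F hF hV
  obtain ⟨s, hs⟩ := hfin.fg_top
  have hsurj : Function.Surjective (π.app V) := AffPushEpi.app_surjective_of_epi π V hV
  let g : Γ(F, V) → Γ(G, V) := Function.surjInv hsurj
  have hg : ∀ t, π.app V (g t) = t := Function.surjInv_eq hsurj
  let P : Set Γ(G, V) := g '' (s : Set Γ(F, V))
  have hPfin : P.Finite := (Finset.finite_toSet s).image g
  let G₀ : LocalSub G := LocalSub.genOn V P
  have h0 : G₀.IsQcFtOn V :=
    fun _ hx => ⟨V, hx, le_rfl, hV, LocalSub.genOn_extPOn _, LocalSub.genOn_fg hV P hPfin⟩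
  obtain ⟨N, hN, hcar⟩ := LocalSub.exists_extension_of_qcqs V hV.isCompact G₀ h0
  haveI hNq : N.obj.IsQuasicoherent := LocalSub.isQuasicoherent_obj N hN.isQcOn
  have hNft := LocalSub.isFiniteType_obj N hN
  refine ⟨N.obj, N.ι, inferInstance, ⟨hNq, hNft⟩, ?_⟩
  apply surjective_of_span (N.ι ≫ π) V (s : Set Γ(F, V)) hs
  intro t ht
  have hmem : g t ∈ N.carrier V := by
    rw [hcar V le_rfl]
    have := LocalSub.genPre_le_genOn P (LocalSub.res_mem_genPre P (le_refl V)
      (Set.mem_image_of_mem g ht))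
    rwa [QcCech.res_self] at this
  refine ⟨N.mkSec (g t) hmem, ?_⟩
  show π.app V (N.ι.app V (N.mkSec (g t) hmem)) = t
  rw [LocalSub.ι_app_mkSec]
  exact hg t

/-- on a Noetherian integral scheme with affine diagonal every coherent module is a quotient of a
coherent module with torsion-free stalks -/
theorem exists_torsionFree_quotient [IsNoetherian X] [IsIntegral X]
    (hd : ∀ V W : X.Opens, IsAffineOpen V → IsAffineOpen W → IsAffineOpen (V ⊓ W))
    (F : X.Modules) (hF : Coh.IsCoh F) :
    ∃ (F' : X.Modules) (π : F' ⟶ F), Coh.IsCoh F' ∧ (∀ y : X, TF F' y) ∧ Epi π := by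
  haveI : F.IsQuasicoherent := hF.1
  obtain ⟨G, π, hGq, hGfl, hπ⟩ := exists_flat_quotient hd F hF.1
  haveI := hGq
  haveI := hπ
  obtain ⟨n, V, hV, hcov, -⟩ := SubSh.exists_fin_cover (X := X)
  choose N i hi hN hsurj using fun l : Fin n => exists_ft_sub_surj hF π (hV l)
  haveI : ∀ l, (N l).IsQuasicoherent := fun l => (hN l).1
  haveI : ∀ l, Mono (i l) := hi
  refine ⟨∐ N, Sigma.desc (fun l => i l ≫ π),
    ⟨FinSigma.isQuasicoherent_sigma N, VT.isFT_sigma N (fun l => (hN l).2)⟩, ?_, ?_⟩
  · intro y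
    exact tf_sigma N y (fun l => tf_of_mono (i l) y (tf_of_isFlatAt G y (hGfl y)))
  · apply FPA.epi_of_surjective_cover
    intro x
    obtain ⟨l, hl⟩ : ∃ l, x ∈ V l := by
      have : x ∈ (⨆ l, V l : X.Opens) := by rw [hcov]; trivial
      exact Opens.mem_iSup.1 this
    refine ⟨V l, hV l, hl, ?_⟩
    intro t
    obtain ⟨m, hm⟩ := hsurj l t
    refine ⟨(Sigma.ι N l).app (V l) m, ?_⟩
    have : Sigma.ι N l ≫ Sigma.desc (fun l => i l ≫ π) = i l ≫ π := Sigma.ι_desc _ _
    rw [← hm, ← this]
    rfl

end Groth.Agent.Lib.Helper5.FlatQuot
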